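import Groth.Agent.ArtF85.Basic
import Groth.Agent.ArtF85.Cond
import Mathlib.RingTheory.Henselian

/-! Small extensions, sections, fibre products with separable residue field. -/

set_option autoImplicit false
set_option linter.style.haveILetI false

universe u v

open CategoryTheory

namespace Groth.Agent.ArtF84

open ArtFun ArtFun.Art

variable {Λ : Type u} {k : Type u} [CommRing Λ] [Field k] [Algebra Λ k]

theorem isSmallExt_fst {B A A₁ A₂ : Art Λ k} {p₁ : B ⟶ A₁} {p₂ : B ⟶ A₂} {f₁ : A₁ ⟶ A} {f₂ : A₂ ⟶ A}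
    (h : IsFibreProd p₁ p₂ f₁ f₂) (hf₂ : IsSmallExt f₂) : IsSmallExt p₁ := by
  obtain ⟨t, ht0, hker, htm⟩ := ArtF85.exists_generator hf₂
  have ht : f₂ t = 0 := RingHom.mem_ker.1 (hker ▸ Ideal.mem_span_singleton_self t)
  obtain ⟨t', h1, h2⟩ := h.surj 0 t ((map_zero _).trans ht.symm)
  refine ArtF85.isSmallExt_of_ker (ArtF85.surjective_fst h hf₂.1) (t := t')
    (fun h0 => ht0 (by rw [← h2, h0]; exact map_zero _)) ?_ (fun a ha => ?_)
  · refine le_antisymm (fun b hb => ?_) ((Ideal.span_singleton_le_iff_mem _).2 h1)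
    have hb1 : p₁ b = 0 := hb
    have hb2 : p₂ b ∈ RingHom.ker f₂.toAlgHom := by
      show f₂ (p₂ b) = 0
      rw [← h.w_apply, hb1, map_zero]
    rw [hker] at hb2
    obtain ⟨c, hc⟩ := Ideal.mem_span_singleton'.1 hb2
    obtain ⟨b₀, hb₀⟩ := B.res_surjective (A₂.res c)
    refine Ideal.mem_span_singleton'.2 ⟨b₀, h.inj _ _ ?_ ?_⟩
    · rw [map_mul, h1, mul_zero, hb1]
    · rw [map_mul, h2, ← hc]
      exact ArtF85.mul_eq_mul_of_res_eq htm (by rw [res_app, hb₀])
  · refine h.inj _ _ ?_ ?_
    · rw [map_mul, h1, mul_zero, map_zero]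
    · rw [map_mul, h2, map_zero]
      exact htm _ (by rw [mem_maximalIdeal_iff, res_app]; exact (mem_maximalIdeal_iff B a).1 ha)

theorem not_essential_iff_exists_section {A B : Art Λ k} (f : B ⟶ A) (hf : IsSmallExt f) :
    (∃ (C : Art Λ k) (g : C ⟶ B), Function.Surjective (g ≫ f) ∧ ¬ Function.Surjective g) ↔
      ∃ s : A ⟶ B, s ≫ f = 𝟙 A := by
  constructor
  · rintro ⟨C, g, hsurj, hng⟩
    obtain ⟨t, ht0, hker, htm⟩ := ArtF85.exists_generator hf
    have hinj : ∀ c : C, f (g c) = 0 → g c = 0 := fun c hc => by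
      by_contra hne
      apply hng
      have hmem : g c ∈ RingHom.ker f.toAlgHom := hc
      rw [hker] at hmem
      obtain ⟨e, he⟩ := Ideal.mem_span_singleton'.1 hmem
      have he0 : B.res e ≠ 0 := fun h0 => hne (he ▸ htm e ((mem_maximalIdeal_iff B e).2 h0))
      intro b
      obtain ⟨c', hc'⟩ := hsurj (f b)
      have hd : b - g c' ∈ RingHom.ker f.toAlgHom := by
        show f (b - g c') = 0
        rw [map_sub, sub_eq_zero]; exact hc'.symm
      rw [hker] at hd
      obtain ⟨d, hd⟩ := Ideal.mem_span_singleton'.1 hd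
      obtain ⟨z, hz⟩ := C.res_surjective (B.res d / B.res e)
      refine ⟨c' + z * c, ?_⟩
      rw [map_add, map_mul, ← he, ← mul_assoc,
        ArtF85.mul_eq_mul_of_res_eq htm (show B.res (g z * e) = B.res d by
          rw [map_mul, res_app, hz, div_mul_cancel₀ _ he0]), hd, add_sub_cancel]
    choose σ hσ using hsurj
    have huniq : ∀ (c : C) (a : A), f (g c) = a → g (σ a) = g c := fun c a hc => by
      rw [← sub_eq_zero, ← map_sub]
      refine hinj _ ?_
      rw [map_sub, map_sub, sub_eq_zero, hc]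
      exact hσ a
    let s : A →ₐ[Λ] B :=
      { toFun := fun a => g (σ a)
        map_one' := (huniq 1 1 (by rw [map_one, map_one])).trans (map_one _)
        map_mul' := fun a b => (huniq (σ a * σ b) (a * b) (by
          rw [map_mul, map_mul]; exact congrArg₂ (· * ·) (hσ a) (hσ b))).trans (map_mul _ _ _)
        map_zero' := (huniq 0 0 (by rw [map_zero, map_zero])).trans (map_zero _)
        map_add' := fun a b => (huniq (σ a + σ b) (a + b) (by
          rw [map_add, map_add]; exact congrArg₂ (· + ·) (hσ a) (hσ b))).trans (map_add _ _ _)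
        commutes' := fun r => (huniq (algebraMap Λ C r) _ (by rw [AlgHom.commutes, AlgHom.commutes])).trans
          (g.toAlgHom.commutes r) }
    refine ⟨⟨s, AlgHom.ext fun a => ?_⟩, ArtF85.hom_ext_apply fun a => hσ a⟩
    show B.res (g (σ a)) = A.res a
    rw [← res_app f, show f (g (σ a)) = a from hσ a]
  · rintro ⟨s, hs⟩
    refine ⟨A, s, fun a => ⟨a, ?_⟩, fun hsurj => ?_⟩
    · rw [hs]; rfl
    · obtain ⟨t, ht0, hker, -⟩ := ArtF85.exists_generator hf
      have ht : f t = 0 := RingHom.mem_ker.1 (hker ▸ Ideal.mem_span_singleton_self t)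
      obtain ⟨a, rfl⟩ := hsurj t
      have h2 : f (s a) = a := congrArg (fun φ : A ⟶ A => φ a) hs
      exact ht0 (by rw [← h2, ht, map_zero])

section Hensel

open Polynomial

/-- A simple root over the residue field lifts uniquely. -/
theorem existsUnique_root (A : Art Λ k) (G : Λ[X]) (hG : G.Monic) (θ : k) (h0 : aeval θ G = 0)
    (h1 : aeval θ (derivative G) ≠ 0) : ∃! a : A, A.res a = θ ∧ aeval a G = 0 := by
  obtain ⟨N, hN⟩ := ArtF85.exists_pow_maximalIdeal_eq_bot A
  haveI hc : IsAdicComplete (IsLocalRing.maximalIdeal A) A :=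
    { haus' := fun x hx => by
        have := SModEq.sub_mem.1 (hx N)
        rwa [sub_zero, smul_eq_mul, Ideal.mul_top, hN, Ideal.mem_bot] at this
      prec' := fun F hF => ⟨F N, fun n => by
        rw [SModEq.sub_mem, smul_eq_mul, Ideal.mul_top]
        rcases le_total n N with h | h
        · have := SModEq.sub_mem.1 (hF h); rwa [smul_eq_mul, Ideal.mul_top] at this
        · have := SModEq.sub_mem.1 (hF h)
          rw [smul_eq_mul, Ideal.mul_top, hN, Ideal.mem_bot, sub_eq_zero] at this
          rw [this, sub_self]; exact zero_mem _⟩ }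
  obtain ⟨a₀, ha₀⟩ := A.res_surjective θ
  have hev : ∀ (P : Λ[X]) (a : A), A.res (aeval a P) = aeval (A.res a) P := fun P a =>
    (aeval_algHom_apply A.res a P).symm
  have hmap : ∀ (P : Λ[X]) (a : A), (P.map (algebraMap Λ A)).eval a = aeval a P := fun P a => by
    rw [eval_map, aeval_def]
  have hu : IsUnit ((G.map (algebraMap Λ A)).derivative.eval a₀) := by
    rw [derivative_map, hmap, ArtF85.isUnit_iff_res_ne_zero, hev, ha₀]; exact h1
  obtain ⟨a, ha, haa⟩ := HenselianRing.is_henselian (I := IsLocalRing.maximalIdeal A) (G.map (algebraMap Λ A))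
    (hG.map _) a₀ (by rw [hmap, mem_maximalIdeal_iff, hev, ha₀]; exact h0) (hu.map _)
  rw [IsRoot.def, hmap] at ha
  have hres : A.res a = θ := by
    rw [mem_maximalIdeal_iff, map_sub, sub_eq_zero] at haa; rw [haa, ha₀]
  refine ⟨a, ⟨hres, ha⟩, ?_⟩
  rintro b ⟨hb, hb0⟩
  obtain ⟨z, hz⟩ := (G.map (algebraMap Λ A)).binomExpansion a (b - a)
  rw [add_sub_cancel, derivative_map, hmap, hmap, hmap, hb0, ha, zero_add, sq, ← mul_assoc, ← add_mul] at hz
  have hu2 : IsUnit (aeval a (derivative G) + z * (b - a)) := by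
    rw [ArtF85.isUnit_iff_res_ne_zero, map_add, map_mul, map_sub, hb, hres, sub_self, mul_zero,
      add_zero, hev, hres]
    exact h1
  exact sub_eq_zero.1 (hu2.mul_right_eq_zero.1 hz.symm)

end Hensel

end Groth.Agent.ArtF84
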