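import Groth.Agent.ArtF85.Cond
import Groth.Prelude.Def_ArtFun5
import Mathlib.RingTheory.AdicCompletion.RingHom
import Mathlib.LinearAlgebra.Dual.Lemmas

/-! Families: truncations, versality consequences. -/

set_option autoImplicit false
set_option linter.style.haveILetI false

universe u v

open CategoryTheory

namespace Groth.Agent.ArtF84

open ArtFun ArtFun.Art

variable {Λ : Type u} {k : Type u} [CommRing Λ] [Field k] [Algebra Λ k]

theorem h0_of_surjective {R : Type u} [CommRing R] [Algebra Λ R] {resR : R →ₐ[Λ] k}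
    {F : Art Λ k ⥤ Type v} (ξ : Family R resR F) (hsurj : ∀ A, Function.Surjective (ξ.app A)) : H0 F := by
  let p : HomSet R resR (base Λ k) := ⟨resR, AlgHom.id_comp _⟩
  refine ⟨⟨ξ.app _ p⟩, ⟨fun x y => ?_⟩⟩
  obtain ⟨a, rfl⟩ := hsurj _ x
  obtain ⟨b, rfl⟩ := hsurj _ y
  refine congrArg (ξ.app _) (Subtype.ext ?_)
  exact ((AlgHom.id_comp a.1).symm.trans a.2).trans ((AlgHom.id_comp b.1).symm.trans b.2).symm

/-- Lift a pair of points to a pinned fibre product. -/
noncomputable def homSetLift {R : Type u} [CommRing R] [Algebra Λ R] {resR : R →ₐ[Λ] k}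
    {B A A' A'' : Art Λ k} {p' : B ⟶ A'} {p'' : B ⟶ A''} {f' : A' ⟶ A} {f'' : A'' ⟶ A}
    (h : IsFibreProd p' p'' f' f'') (φ : HomSet R resR A') (ψ : HomSet R resR A'')
    (w : HomSet.map f' φ = HomSet.map f'' ψ) : HomSet R resR B :=
  let aux (r : R) : ∃ b : B, p' b = φ.1 r ∧ p'' b = ψ.1 r :=
    h.surj _ _ (AlgHom.congr_fun (congrArg Subtype.val w) r)
  have e' (r : R) : p' (aux r).choose = φ.1 r := (aux r).choose_spec.1
  have e'' (r : R) : p'' (aux r).choose = ψ.1 r := (aux r).choose_spec.2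
  ⟨{ toFun := fun r => (aux r).choose
     map_one' := h.inj _ _ (by rw [e', map_one, map_one]) (by rw [e'', map_one, map_one])
     map_mul' := fun a b => h.inj _ _ (by rw [e', map_mul, map_mul, e', e'])
       (by rw [e'', map_mul, map_mul, e'', e''])
     map_zero' := h.inj _ _ (by rw [e', map_zero, map_zero]) (by rw [e'', map_zero, map_zero])
     map_add' := fun a b => h.inj _ _ (by rw [e', map_add, map_add, e', e'])
       (by rw [e'', map_add, map_add, e'', e''])
     commutes' := fun r => h.inj _ _ (by rw [e', AlgHom.commutes, AlgHom.commutes])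
       (by rw [e'', AlgHom.commutes, AlgHom.commutes]) }, by
    apply AlgHom.ext
    intro r
    change B.res (aux r).choose = resR r
    rw [← res_app p', e']
    exact AlgHom.congr_fun φ.2 r⟩

theorem map_homSetLift {R : Type u} [CommRing R] [Algebra Λ R] {resR : R →ₐ[Λ] k}
    {B A A' A'' : Art Λ k} {p' : B ⟶ A'} {p'' : B ⟶ A''} {f' : A' ⟶ A} {f'' : A'' ⟶ A}
    (h : IsFibreProd p' p'' f' f'') (φ : HomSet R resR A') (ψ : HomSet R resR A'')
    (w : HomSet.map f' φ = HomSet.map f'' ψ) :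
    HomSet.map p' (homSetLift h φ ψ w) = φ ∧ HomSet.map p'' (homSetLift h φ ψ w) = ψ :=
  ⟨Subtype.ext (AlgHom.ext fun r =>
      (h.surj _ _ (AlgHom.congr_fun (congrArg Subtype.val w) r)).choose_spec.1),
    Subtype.ext (AlgHom.ext fun r =>
      (h.surj _ _ (AlgHom.congr_fun (congrArg Subtype.val w) r)).choose_spec.2)⟩

theorem s1_of_isVersal {R : Type u} [CommRing R] [Algebra Λ R] {resR : R →ₐ[Λ] k}
    {F : Art Λ k ⥤ Type v} (ξ : Family R resR F) (hξ : IsVersal ξ)
    (hsurj : ∀ A, Function.Surjective (ξ.app A)) : S1 F := by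
  intro B A A' A'' p' p'' f' f'' h hf x
  obtain ⟨φ, hφ⟩ := hsurj A' x.1.1
  obtain ⟨ψ, hψ₁, hψ₂⟩ := hξ f'' hf (HomSet.map f' φ) x.1.2 (by rw [ξ.natural, hφ]; exact x.2.symm)
  let χ := homSetLift h φ ψ hψ₁.symm
  refine ⟨ξ.app B χ, FibProd.ext ?_ ?_⟩
  · show F.map p' (ξ.app B χ) = x.1.1
    rw [← ξ.natural, ← hφ]
    exact congrArg _ (map_homSetLift h φ ψ hψ₁.symm).1
  · show F.map p'' (ξ.app B χ) = x.1.2
    rw [← ξ.natural, ← hψ₂]
    exact congrArg _ (map_homSetLift h φ ψ hψ₁.symm).2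

theorem heps_of_isMiniversal {R : Type u} [CommRing R] [Algebra Λ R] {resR : R →ₐ[Λ] k}
    {F : Art Λ k ⥤ Type v} (ξ : Family R resR F) (hξ : IsMiniversal ξ)
    (hsurj : ∀ A, Function.Surjective (ξ.app A)) : Heps F := by
  intro B A' p' p'' h
  refine ⟨fun z₁ z₂ e => ?_, s1_of_isVersal ξ hξ.1 hsurj p' p'' _ _ h (ArtF85.surjective_toBase _)⟩
  obtain ⟨ψ₁, rfl⟩ := hsurj B z₁
  have e1 : F.map p' (ξ.app B ψ₁) = F.map p' z₂ := congrArg (fun t => t.1.1) e
  have e2 : F.map p'' (ξ.app B ψ₁) = F.map p'' z₂ := congrArg (fun t => t.1.2) e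
  obtain ⟨ψ₂, h1, rfl⟩ := hξ.1 p' (ArtF85.surjective_fst h (ArtF85.surjective_toBase _))
    (HomSet.map p' ψ₁) z₂ (by rw [ξ.natural, e1])
  have h2 : HomSet.map p'' ψ₁ = HomSet.map p'' ψ₂ := hξ.2.1 (by rw [ξ.natural, ξ.natural, e2])
  exact congrArg _ (Subtype.ext (AlgHom.ext fun r =>
    h.inj _ _ (AlgHom.congr_fun (congrArg Subtype.val h1) r).symm
      (AlgHom.congr_fun (congrArg Subtype.val h2) r)))

section CRing

variable {R S : CRing Λ k}

theorem mem_pow_of_le (n : ℕ) {A : Art Λ k} (φ : HomSet R.carrier R.res A)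
    (hn : IsLocalRing.maximalIdeal A ^ (n + 1) = ⊥) (a : R.carrier) (ha : a ∈ CRing.mpow R n) : φ.1 a = 0 := by
  have hle : (IsLocalRing.maximalIdeal R.carrier).map φ.1 ≤ IsLocalRing.maximalIdeal A :=
    Ideal.map_le_iff_le_comap.2 fun x hx => by
      rw [Ideal.mem_comap, mem_maximalIdeal_iff]
      exact (AlgHom.congr_fun φ.2 x).trans ((CRing.mem_maximalIdeal_iff R x).1 hx)
  have h1 := Ideal.mem_map_of_mem φ.1 ha
  rw [CRing.mpow, Ideal.map_pow] at h1
  exact Ideal.mem_bot.1 (hn ▸ Ideal.pow_right_mono hle (n + 1) h1)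

/-- Every point of a coefficient ring factors through a truncation. -/
theorem exists_factor_trunc {A : Art Λ k} (φ : HomSet R.carrier R.res A) :
    ∃ (n : ℕ) (h : R.trunc n ⟶ A), HomSet.map h (R.truncHom n) = φ := by
  obtain ⟨n, hn⟩ := ArtF85.exists_pow_maximalIdeal_eq_bot A
  have hn' : IsLocalRing.maximalIdeal A ^ (n + 1) = ⊥ := by rw [pow_succ, hn, Ideal.bot_mul]
  refine ⟨n, ⟨Ideal.Quotient.liftₐ _ φ.1 (mem_pow_of_le n φ hn'), AlgHom.ext fun x => ?_⟩,
    Subtype.ext (AlgHom.ext fun _ => rfl)⟩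
  obtain ⟨a, rfl⟩ := Ideal.Quotient.mk_surjective x
  exact AlgHom.congr_fun φ.2 a

theorem eq_of_truncHom_comp_eq (g₁ g₂ : R.carrier →ₐ[Λ] S.carrier)
    (h : ∀ n, (S.truncHom n).1.comp g₁ = (S.truncHom n).1.comp g₂) : g₁ = g₂ := by
  haveI := S.isAdicComplete
  refine AlgHom.ext fun r => (IsHausdorff.eq_iff_smodEq (I := IsLocalRing.maximalIdeal S.carrier)).2 fun n => ?_
  rw [SModEq.sub_mem, smul_eq_mul, Ideal.mul_top]
  exact Ideal.pow_le_pow_right (Nat.le_succ n)
    ((Ideal.Quotient.eq).1 (AlgHom.congr_fun (h n) r))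

theorem exists_algHom_of_compatible (ψ : ∀ n, HomSet R.carrier R.res (S.trunc n))
    (hψ : ∀ n, HomSet.map (S.truncMap n) (ψ (n + 1)) = ψ n) :
    ∃ (g : R.carrier →ₐ[Λ] S.carrier) (hg : S.res.comp g = R.res),
      ∀ n, (⟨(S.truncHom n).1.comp g, by rw [← AlgHom.comp_assoc, (S.truncHom n).2, hg]⟩ :
        HomSet R.carrier R.res (S.trunc n)) = ψ n := by
  haveI := S.isAdicComplete
  set m := IsLocalRing.maximalIdeal S.carrier
  have ha : StrictMono (fun n : ℕ => n + 1) := fun a b h => Nat.succ_lt_succ h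
  let f : ∀ n : ℕ, R.carrier →+* S.carrier ⧸ m ^ (n + 1) := fun n => (ψ n).1.toRingHom
  have hf : ∀ {n : ℕ}, (Ideal.Quotient.factorPow m (ha.monotone (Nat.le_succ n))).comp (f (n + 1)) = f n := by
    intro n
    refine RingHom.ext fun x => Eq.trans ?_ (AlgHom.congr_fun (congrArg Subtype.val (hψ n)) x)
    show (Ideal.Quotient.factorPow m (ha.monotone (Nat.le_succ n))) ((ψ (n + 1)).1 x) = (S.truncMap n) ((ψ (n + 1)).1 x)
    obtain ⟨s, hs⟩ := Ideal.Quotient.mk_surjective ((ψ (n + 1)).1 x)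
    rw [← hs]
    rfl
  let g₀ := IsAdicComplete.StrictMono.liftRingHom m ha f hf
  have hg₀ : ∀ n x, Ideal.Quotient.mk (m ^ (n + 1)) (g₀ x) = (ψ n).1 x := fun n x =>
    IsAdicComplete.StrictMono.mk_liftRingHom m ha f hf x
  let g : R.carrier →ₐ[Λ] S.carrier :=
    { g₀ with
      commutes' := fun l => (IsHausdorff.eq_iff_smodEq (I := m)).2 fun n => by
        rw [SModEq.sub_mem, smul_eq_mul, Ideal.mul_top]
        exact Ideal.pow_le_pow_right (Nat.le_succ n)
          (Ideal.Quotient.eq.1 ((hg₀ n _).trans ((ψ n).1.commutes l))) }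
  have hg : S.res.comp g = R.res := AlgHom.ext fun x => by
    have h1 := AlgHom.congr_fun (ψ 0).2 x
    rw [← h1]
    show S.res (g₀ x) = (S.trunc 0).res ((ψ 0).1 x)
    rw [← hg₀ 0 x]
    rfl
  exact ⟨g, hg, fun n => Subtype.ext (AlgHom.ext fun x => hg₀ n x)⟩

theorem toFormalElt_elt {F : Art Λ k ⥤ Type v} (ξ : Family R.carrier R.res F)
    (g : R.carrier →ₐ[Λ] S.carrier) (hg : S.res.comp g = R.res) (n : ℕ) :
    (ξ.along g hg).toFormalElt.elt n = ξ.app (S.trunc n)
      ⟨(S.truncHom n).1.comp g, by rw [← AlgHom.comp_assoc, (S.truncHom n).2, hg]⟩ := rfl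

theorem exists_along_eq_of_isVersal {F₁ F₂ : Art Λ k ⥤ Type v} (f : F₁ ⟶ F₂)
    (ξ₁ : Family R.carrier R.res F₁) (R₂ : CRing Λ k) (ξ₂ : Family R₂.carrier R₂.res F₂)
    (hξ₂ : IsVersal ξ₂) (hsurj : ∀ A, Function.Surjective (ξ₂.app A)) :
    ∃ (φ : R₂.carrier →ₐ[Λ] R.carrier) (hφ : R.res.comp φ = R₂.res),
      ∀ (A : Art Λ k) (u : HomSet R.carrier R.res A), (ξ₂.along φ hφ).app A u = f.app A (ξ₁.app A u) := by
  let tgt : ∀ n, F₂.obj (R.trunc n) := fun n => f.app _ (ξ₁.app _ (R.truncHom n))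
  have hnat : ∀ n, F₂.map (R.truncMap n) (tgt (n + 1)) = tgt n := fun n => by
    show F₂.map _ (f.app _ _) = f.app _ _
    rw [← NatTrans.naturality_apply f, ← ξ₁.natural, CRing.truncMap_truncHom]
  have hsu : ∀ n, Function.Surjective (R.truncMap n) := fun n x => by
    obtain ⟨a, rfl⟩ := Ideal.Quotient.mk_surjective x
    exact ⟨Ideal.Quotient.mk _ a, rfl⟩
  choose next h1 h2 using fun n (ψ : {ψ : HomSet R₂.carrier R₂.res (R.trunc n) // ξ₂.app _ ψ = tgt n}) =>
    hξ₂ (R.truncMap n) (hsu n) ψ.1 (tgt (n + 1)) ((hnat n).trans ψ.2.symm)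
  let ψ : ∀ n, {ψ : HomSet R₂.carrier R₂.res (R.trunc n) // ξ₂.app _ ψ = tgt n} := fun n =>
    Nat.rec ⟨(hsurj _ (tgt 0)).choose, (hsurj _ (tgt 0)).choose_spec⟩ (fun n p => ⟨next n p, h2 n p⟩) n
  obtain ⟨g, hg, hgn⟩ := exists_algHom_of_compatible (R := R₂) (S := R) (fun n => (ψ n).1)
    (fun n => h1 n (ψ n))
  refine ⟨g, hg, fun A u => ?_⟩
  obtain ⟨n, h, rfl⟩ := exists_factor_trunc u
  rw [Family.natural, Family.natural, NatTrans.naturality_apply f]
  refine congrArg _ ?_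
  exact (congrArg (ξ₂.app _) (hgn n)).trans (ψ n).2

end CRing

section Miniversal

variable {k : Type u} [Field k]

theorem exists_hom_dual {S : CRing k k} (x : (S.trunc 1).carrier)
    (hx : (S.trunc 1).res x = 0) (hx0 : x ≠ 0) :
    ∃ h : S.trunc 1 ⟶ dual k k, (TrivSqZeroExt.snd (h x) : k) ≠ 0 := by
  let T : Art k k := S.trunc 1
  have hT : IsLocalRing.maximalIdeal T ^ 2 = ⊥ := by
    refine le_bot_iff.1 (le_trans (Ideal.pow_right_mono (CRing.maximalIdeal_quot_le S 1) 2) ?_)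
    rw [← Ideal.map_pow]
    exact le_of_eq (Ideal.map_quotient_self _)
  have hxk : (x : T) ∉ Submodule.span k {(1 : T)} := fun hmem => by
    obtain ⟨c, hc⟩ := Submodule.mem_span_singleton.1 hmem
    have h := congrArg T.res hc
    rw [map_smul, map_one, hx, smul_eq_mul, mul_one] at h
    exact hx0 (by rw [← hc, h, zero_smul])
  obtain ⟨lam, hlx, hl⟩ := Submodule.exists_dual_map_eq_bot_of_notMem hxk inferInstance
  have hl1 : lam 1 = 0 :=
    (Submodule.mem_bot _).1 (hl ▸ Submodule.mem_map_of_mem (Submodule.mem_span_singleton_self 1))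
  have hmul : ∀ a b : T, lam (a * b) = T.res a * lam b + T.res b * lam a := fun a b => by
    have hz : (a - T.res a • 1) * (b - T.res b • 1) = 0 := by
      rw [← Ideal.mem_bot, ← hT, sq]
      refine Ideal.mul_mem_mul ?_ ?_ <;>
      · rw [mem_maximalIdeal_iff, map_sub, map_smul, map_one, smul_eq_mul, mul_one, sub_self]
    have h := congrArg lam hz
    rw [sub_mul, mul_sub, mul_sub, smul_one_mul, smul_one_mul, mul_smul_one] at h
    simp only [map_sub, map_smul, map_zero, hl1, smul_eq_mul, mul_zero] at h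
    linear_combination h
  let h₀ : T →ₐ[k] DualNumber k :=
    { toFun := fun a => (T.res a, lam a)
      map_one' := TrivSqZeroExt.ext (map_one T.res) hl1
      map_mul' := fun a b => TrivSqZeroExt.ext (map_mul T.res a b) (by
        show lam (a * b) = T.res a • lam b + MulOpposite.op (T.res b) • lam a
        rw [hmul, op_smul_eq_smul]; rfl)
      map_zero' := TrivSqZeroExt.ext (map_zero T.res) (map_zero lam)
      map_add' := fun a b => TrivSqZeroExt.ext (map_add T.res a b) (map_add lam a b)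
      commutes' := fun r => TrivSqZeroExt.ext (T.res.commutes r) (by
        show lam (algebraMap k T r) = _
        rw [Algebra.algebraMap_eq_smul_one, map_smul, hl1, smul_zero]
        rfl) }
  exact ⟨⟨h₀, AlgHom.ext fun a => rfl⟩, hlx⟩

theorem truncHom_one_comp_eq {F : Art k k ⥤ Type v} {R S : CRing k k} (ξ : Family R.carrier R.res F)
    (hξ : Function.Injective (ξ.app (dual k k))) (g₁ g₂ : R.carrier →ₐ[k] S.carrier)
    (hg₁ : S.res.comp g₁ = R.res) (hg₂ : S.res.comp g₂ = R.res)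
    (h : (ξ.along g₁ hg₁).toFormalElt = (ξ.along g₂ hg₂).toFormalElt) :
    (S.truncHom 1).1.comp g₁ = (S.truncHom 1).1.comp g₂ := by
  refine AlgHom.ext fun r => ?_
  by_contra hne
  obtain ⟨η, hη⟩ := exists_hom_dual ((S.truncHom 1).1 (g₁ r) - (S.truncHom 1).1 (g₂ r))
    (by
      show (S.trunc 1).res ((S.truncHom 1).1 (g₁ r) - (S.truncHom 1).1 (g₂ r)) = 0
      rw [map_sub, sub_eq_zero]
      exact ((AlgHom.congr_fun (S.truncHom 1).2 _).trans (AlgHom.congr_fun hg₁ r)).trans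
        ((AlgHom.congr_fun (S.truncHom 1).2 _).trans (AlgHom.congr_fun hg₂ r)).symm)
    (sub_ne_zero.2 hne)
  apply hη
  have e := congrArg (fun v : FormalElt F S => F.map η (v.elt 1)) h
  simp only [toFormalElt_elt] at e
  replace e := (ξ.natural η _).trans (e.trans (ξ.natural η _).symm)
  have e' := AlgHom.congr_fun (congrArg Subtype.val (hξ e)) r
  rw [map_sub]
  exact (TrivSqZeroExt.snd_sub _ _).trans (sub_eq_zero.2 (congrArg TrivSqZeroExt.snd e'))

end Miniversal

end Groth.Agent.ArtF84
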