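import Mathlib.RingTheory.Length
import Mathlib.RingTheory.Derivation.Basic
import Mathlib.RingTheory.HopkinsLevitzki
import Mathlib.RingTheory.LocalRing.MaximalIdeal.Basic
import Mathlib.RingTheory.Finiteness.Cardinality

/-! Length over the base, and finiteness of derivations into the residue field. -/

set_option autoImplicit false
set_option linter.style.haveILetI false
universe u v

namespace Groth.Agent.ArtF84

open IsLocalRing

variable {Λ : Type u} {k : Type u} [CommRing Λ] [Field k] [Algebra Λ k] [IsNoetherianRing Λ] [Module.Finite Λ k]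

theorem length_base_ne_top : Module.length Λ k ≠ ⊤ := by
  have : Algebra.IsIntegral Λ k := Algebra.IsIntegral.of_finite Λ k
  have hmax : (RingHom.ker (algebraMap Λ k)).IsMaximal :=
    Ideal.isMaximal_comap_of_isIntegral_of_isMaximal (⊥ : Ideal k)
  let I := RingHom.ker (algebraMap Λ k)
  have : IsArtinianRing (Λ ⧸ I) := by
    letI := Ideal.Quotient.field I
    infer_instance
  have htor : Module.IsTorsionBySet Λ k (I : Set Λ) := fun x a => by
    rw [Algebra.smul_def, RingHom.mem_ker.1 a.2, zero_mul]
  letI := htor.module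
  haveI : IsScalarTower Λ (Λ ⧸ I) k := htor.isScalarTower
  haveI : Module.Finite (Λ ⧸ I) k := Module.Finite.of_restrictScalars_finite Λ (Λ ⧸ I) k
  rw [Module.length_eq_of_surjective (S := Λ) (R := Λ ⧸ I) Ideal.Quotient.mk_surjective]
  exact Module.length_ne_top

theorem length_mul_length_of_isFiniteLength (A : Type u) [CommRing A] [Algebra Λ A] [IsLocalRing A]
    [Algebra A k] [IsScalarTower Λ A k] (hres : Function.Surjective (algebraMap A k))
    {M : Type v} [AddCommGroup M] [Module A M] (hfl : IsFiniteLength A M) :
    ∀ [Module Λ M] [IsScalarTower Λ A M],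
      Module.length Λ k * Module.length A M = Module.length Λ M := by
  have hker : RingHom.ker (algebraMap A k) = maximalIdeal A :=
    IsLocalRing.eq_maximalIdeal (RingHom.ker_isMaximal_of_surjective _ hres)
  induction hfl with
  | of_subsingleton =>
    intro _ _
    rename_i M _ _ _ _ _
    rw [Module.length_eq_zero (R := A) (M := M), Module.length_eq_zero (R := Λ) (M := M), mul_zero]
  | @of_simple_quotient M _ _ N hs _ ih =>
    intro _ _
    rw [Module.length_eq_add_of_exact N.subtype N.mkQ Subtype.val_injective N.mkQ_surjective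
        (LinearMap.exact_subtype_mkQ N),
      Module.length_eq_add_of_exact (R := Λ) (N.subtype.restrictScalars Λ) (N.mkQ.restrictScalars Λ)
        Subtype.val_injective N.mkQ_surjective (LinearMap.exact_subtype_mkQ N),
      mul_add, ih, Module.length_eq_one A (M ⧸ N), mul_one]
    obtain ⟨I, hI, ⟨e⟩⟩ := isSimpleModule_iff_quot_maximal.1 hs
    have hI' : I = maximalIdeal A := IsLocalRing.eq_maximalIdeal hI
    subst hI'
    let e2 : (A ⧸ maximalIdeal A) ≃ₐ[Λ] k :=
      (Ideal.quotientEquivAlgOfEq Λ hker.symm).trans
        (Ideal.quotientKerAlgEquivOfSurjective (f := IsScalarTower.toAlgHom Λ A k) hres)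
    exact congrArg _ ((e.restrictScalars Λ).trans e2.toLinearEquiv).length_eq.symm

theorem length_mul_length (A : Type u) [CommRing A] [Algebra Λ A] [IsLocalRing A] [Algebra A k]
    [IsScalarTower Λ A k] (hres : Function.Surjective (algebraMap A k))
    (M : Type v) [AddCommGroup M] [Module A M] [Module Λ M] [IsScalarTower Λ A M] :
    Module.length Λ k * Module.length A M = Module.length Λ M := by
  by_cases htop : Module.length A M = ⊤
  · have hpos : Module.length Λ k ≠ 0 := Module.length_pos.ne'
    rw [htop, ENat.mul_top hpos]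
    refine (top_le_iff.1 (htop.symm.le.trans ?_)).symm
    let e : ((⊤ : Submodule A M).restrictScalars Λ) ≃ₗ[Λ] M :=
      (LinearEquiv.ofEq _ _ (Submodule.restrictScalars_top Λ A M)).trans Submodule.topEquiv
    exact Module.length_top.symm.le.trans
      ((Submodule.length_le_length_restrictScalars (R := A) (M := M) Λ ⊤).trans e.length_eq.le)
  · exact length_mul_length_of_isFiniteLength A hres (Module.length_ne_top_iff.1 htop)

theorem finite_derivation (S : Type u) [CommRing S] [Algebra Λ S] [IsLocalRing S] [IsNoetherianRing S]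
    [Algebra S k] [IsScalarTower Λ S k] (hres : Function.Surjective (algebraMap S k)) :
    Module.Finite k (Derivation Λ S k) := by
  have hker : RingHom.ker (algebraMap S k) = maximalIdeal S :=
    IsLocalRing.eq_maximalIdeal (RingHom.ker_isMaximal_of_surjective _ hres)
  obtain ⟨n, w, hw⟩ := Module.Finite.exists_fin (R := Λ) (M := k)
  obtain ⟨m, g, hg⟩ := Submodule.fg_iff_exists_fin_generating_family.1
    (IsNoetherian.noetherian (maximalIdeal S))
  choose σ hσ using hres
  let ev : Derivation Λ S k →ₗ[k] (Fin n → k) × (Fin m → k) :=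
    { toFun := fun D => (fun i => D (σ (w i)), fun j => D (g j))
      map_add' := fun _ _ => rfl
      map_smul' := fun _ _ => rfl }
  refine FiniteDimensional.of_injective ev ((injective_iff_map_eq_zero _).2 fun D hD => ?_)
  have h1 : ∀ i, D (σ (w i)) = 0 := fun i => congrFun (congrArg Prod.fst hD) i
  have h2 : ∀ j, D (g j) = 0 := fun j => congrFun (congrArg Prod.snd hD) j
  have hgm : ∀ j, algebraMap S k (g j) = 0 := fun j =>
    RingHom.mem_ker.1 (hker ▸ hg ▸ Submodule.subset_span ⟨j, rfl⟩)
  have hm : ∀ x ∈ maximalIdeal S, D x = 0 := fun x hx => by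
    rw [← hg] at hx
    obtain ⟨c, rfl⟩ := (Submodule.mem_span_range_iff_exists_fun S).1 hx
    rw [map_sum]
    refine Finset.sum_eq_zero fun j _ => ?_
    rw [smul_eq_mul, D.leibniz, h2, smul_zero, zero_add, Algebra.smul_def, hgm, zero_mul]
  ext s
  obtain ⟨c, hc⟩ := (Submodule.mem_span_range_iff_exists_fun Λ).1
    (hw ▸ Submodule.mem_top (x := algebraMap S k s))
  have hd : s - ∑ i, c i • σ (w i) ∈ maximalIdeal S := by
    rw [← hker, RingHom.mem_ker, map_sub, map_sum, ← hc, sub_eq_zero]
    refine Finset.sum_congr rfl fun i _ => ?_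
    rw [Algebra.smul_def, Algebra.smul_def, map_mul, hσ, ← IsScalarTower.algebraMap_apply]
  have := hm _ hd
  rw [map_sub, map_sum, sub_eq_zero] at this
  rw [this]
  simp [h1]

end Groth.Agent.ArtF84
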