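import Groth.Agent.ArtF84.Basic
import Mathlib.FieldTheory.PrimitiveElement
import Mathlib.FieldTheory.Minpoly.Field
import Mathlib.RingTheory.Polynomial.Basic

/-! Fibre products of augmented Artinian algebras with separable residue field. -/

set_option autoImplicit false
set_option linter.style.haveILetI false

universe u

open CategoryTheory

namespace Groth.Agent.ArtF84

open ArtFun ArtFun.Art Groth.Agent.ArtF85

variable {Λ : Type u} {k : Type u} [CommRing Λ] [Field k] [Algebra Λ k]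
variable [IsNoetherianRing Λ] [Module.Finite Λ k]
variable {A A' A'' : Art Λ k}

/-- The set-theoretic fibre product is an object when it maps onto the residue field. -/
theorem exists_fibreProd_of_lift (f' : A' ⟶ A) (f'' : A'' ⟶ A)
    (hlift : ∀ c : k, ∃ (a' : A') (a'' : A''), f' a' = f'' a'' ∧ A'.res a' = c) :
    ∃ (B : Art Λ k) (p' : B ⟶ A') (p'' : B ⟶ A''), IsFibreProd p' p'' f' f'' := by
  let P : Subalgebra Λ (A' × A'') := AlgHom.equalizer
    (f'.toAlgHom.comp (AlgHom.fst Λ A' A'')) (f''.toAlgHom.comp (AlgHom.snd Λ A' A''))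
  have hmem : ∀ x : A' × A'', x ∈ P ↔ f' x.1 = f'' x.2 := fun x => Iff.rfl
  have hres : ∀ x : P, A''.res x.1.2 = A'.res x.1.1 := fun x => by
    rw [← res_app f', ← res_app f'', ((hmem _).1 x.2)]
  have hunit : ∀ x : P, A'.res x.1.1 ≠ 0 → IsUnit x := by
    intro x hx
    obtain ⟨u, hu⟩ := (isUnit_iff_res_ne_zero A' _).2 hx
    obtain ⟨v, hv⟩ := (isUnit_iff_res_ne_zero A'' x.1.2).2 (by rwa [hres x])
    have : f' (↑u⁻¹ : A') = f'' (↑v⁻¹ : A'') := by
      have h1 : f' x.1.1 * f' (↑u⁻¹ : A') = 1 := by rw [← map_mul, ← hu, Units.mul_inv, map_one]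
      have h2 : f' x.1.1 * f'' (↑v⁻¹ : A'') = 1 := by
        rw [(hmem _).1 x.2, ← map_mul, ← hv, Units.mul_inv, map_one]
      exact left_inv_eq_right_inv (by rwa [mul_comm]) h2
    exact ⟨⟨x, ⟨((↑u⁻¹ : A'), (↑v⁻¹ : A'')), (hmem _).2 this⟩,
      Subtype.ext (Prod.ext (by simp [← hu]) (by simp [← hv])),
      Subtype.ext (Prod.ext (by simp [← hu]) (by simp [← hv]))⟩, rfl⟩
  haveI : Nontrivial P := ⟨⟨0, 1, fun h =>
    zero_ne_one (α := k) (by simpa using congrArg (fun x : P => A'.res x.1.1) h)⟩⟩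
  haveI : IsLocalRing P := IsLocalRing.of_isUnit_or_isUnit_one_sub_self fun x => by
    by_cases hx : A'.res x.1.1 = 0
    · exact Or.inr (hunit _ (by simp [hx]))
    · exact Or.inl (hunit x hx)
  haveI := moduleFinite A'
  haveI := moduleFinite A''
  haveI : IsNoetherian Λ P := isNoetherian_submodule' P.toSubmodule
  haveI : IsNoetherianRing P := isNoetherian_of_tower Λ inferInstance
  obtain ⟨M, hM⟩ := exists_pow_maximalIdeal_eq_bot A'
  obtain ⟨N, hN⟩ := exists_pow_maximalIdeal_eq_bot A''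
  haveI : IsArtinianRing P := by
    rw [isArtinianRing_iff_isNilpotent_maximalIdeal]
    refine ⟨M + N, ?_⟩
    rw [Ideal.zero_eq_bot, eq_bot_iff]
    intro x hx
    let π₁ : P →+* A' := ((AlgHom.fst Λ A' A'').comp P.val).toRingHom
    let π₂ : P →+* A'' := ((AlgHom.snd Λ A' A'').comp P.val).toRingHom
    have hmax : ∀ y ∈ IsLocalRing.maximalIdeal P, A'.res y.1.1 = 0 := fun y hy => by
      by_contra h
      exact (IsLocalRing.mem_maximalIdeal y).1 hy (hunit y h)
    have h₁ : (IsLocalRing.maximalIdeal P).map π₁ ≤ IsLocalRing.maximalIdeal A' :=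
      Ideal.map_le_iff_le_comap.2 fun y hy => (mem_maximalIdeal_iff A' (π₁ y)).2 (hmax y hy)
    have h₂ : (IsLocalRing.maximalIdeal P).map π₂ ≤ IsLocalRing.maximalIdeal A'' :=
      Ideal.map_le_iff_le_comap.2 fun y hy =>
        (mem_maximalIdeal_iff A'' (π₂ y)).2 ((hres y).trans (hmax y hy))
    have m₁ := Ideal.mem_map_of_mem π₁ hx
    have m₂ := Ideal.mem_map_of_mem π₂ hx
    rw [Ideal.map_pow] at m₁ m₂
    have k₁ : π₁ x = 0 := Ideal.mem_bot.1
      (hM ▸ Ideal.pow_le_pow_right (Nat.le_add_right M N) (Ideal.pow_right_mono h₁ _ m₁))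
    have k₂ : π₂ x = 0 := Ideal.mem_bot.1
      (hN ▸ Ideal.pow_le_pow_right (Nat.le_add_left N M) (Ideal.pow_right_mono h₂ _ m₂))
    exact Ideal.mem_bot.2 (Subtype.ext (Prod.ext k₁ k₂))
  let q' : P →ₐ[Λ] A' := (AlgHom.fst Λ A' A'').comp P.val
  let q'' : P →ₐ[Λ] A'' := (AlgHom.snd Λ A' A'').comp P.val
  have hsurj : Function.Surjective (A'.res.comp q') := fun c => by
    obtain ⟨a', a'', ha, hc⟩ := hlift c
    exact ⟨⟨(a', a''), (hmem _).2 ha⟩, hc⟩
  refine ⟨Art.of P (A'.res.comp q') hsurj, ⟨q', rfl⟩, ⟨q'', AlgHom.ext hres⟩,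
    ⟨hom_ext_apply fun b => (hmem _).1 b.2, fun b₁ b₂ h₁ h₂ => Subtype.ext (Prod.ext h₁ h₂),
      fun a' a'' h => ⟨⟨(a', a''), (hmem _).2 h⟩, rfl, rfl⟩⟩⟩

open Polynomial in
/-- With separable residue extension all fibre products exist. -/
theorem exists_fibreProd_of_isSeparable [Algebra.IsSeparable (↥(algebraMap Λ k).range) k]
    (f₁ : A' ⟶ A) (f₂ : A'' ⟶ A) :
    ∃ (B : Art Λ k) (p₁ : B ⟶ A') (p₂ : B ⟶ A''), IsFibreProd p₁ p₂ f₁ f₂ := by
  set K₀ := (algebraMap Λ k).range with hK₀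
  let π : Λ →+* K₀ := (algebraMap Λ k).rangeRestrict
  have hπ : (algebraMap K₀ k).comp π = algebraMap Λ k := rfl
  haveI hfinK : Module.Finite K₀ k := by
    obtain ⟨s, hs⟩ := (inferInstance : Module.Finite Λ k).fg_top
    refine ⟨⟨s, eq_top_iff.2 fun x _ => ?_⟩⟩
    have hx : x ∈ Submodule.span Λ (s : Set k) := hs ▸ Submodule.mem_top
    induction hx using Submodule.span_induction with
    | mem x hx => exact Submodule.subset_span hx
    | zero => exact zero_mem _
    | add x y _ _ hx hy => exact add_mem (hx trivial) (hy trivial)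
    | smul r x _ hx =>
      rw [show r • x = (π r) • x from Algebra.smul_def r x]
      exact Submodule.smul_mem _ _ (hx trivial)
  haveI : Algebra.IsIntegral K₀ k := Algebra.IsIntegral.of_finite K₀ k
  have hfld : IsField K₀ :=
    isField_of_isIntegral_of_isField (FaithfulSMul.algebraMap_injective K₀ k) (Field.toIsField k)
  letI : Field K₀ := hfld.toField
  obtain ⟨θ, hθ⟩ := Field.exists_primitive_element K₀ k
  obtain ⟨G, hG, -, hGm⟩ := lifts_and_natDegree_eq_and_monic
    ((mem_lifts _).2 (map_surjective π (algebraMap Λ k).rangeRestrict_surjective (minpoly K₀ θ)))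
    (minpoly.monic (Algebra.IsIntegral.isIntegral θ))
  have hev : ∀ P : Λ[X], aeval θ P = aeval θ (P.map π) := fun P => by
    simp only [aeval_def, eval₂_map, hπ]
  have h0 : aeval θ G = 0 := by rw [hev, hG, minpoly.aeval]
  have h1 : aeval θ (derivative G) ≠ 0 := by
    rw [hev, ← derivative_map, hG]
    exact (Algebra.IsSeparable.isSeparable K₀ θ).aeval_derivative_ne_zero (minpoly.aeval K₀ θ)
  obtain ⟨a₁, ⟨r₁, z₁⟩, -⟩ := existsUnique_root A' G hGm θ h0 h1
  obtain ⟨a₂, ⟨r₂, z₂⟩, -⟩ := existsUnique_root A'' G hGm θ h0 h1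
  have heq : f₁ a₁ = f₂ a₂ := (existsUnique_root A G hGm θ h0 h1).unique
    ⟨by rw [res_app, r₁], by rw [aeval_algHom_apply, z₁, map_zero]⟩
    ⟨by rw [res_app, r₂], by rw [aeval_algHom_apply, z₂, map_zero]⟩
  refine exists_fibreProd_of_lift f₁ f₂ fun c => ?_
  obtain ⟨P, hP⟩ : ∃ P : K₀[X], aeval θ P = c := by
    have hc : c ∈ Algebra.adjoin K₀ {θ} := by
      rw [← IntermediateField.adjoin_simple_toSubalgebra_of_isAlgebraic
        (Algebra.IsIntegral.isIntegral θ).isAlgebraic, hθ]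
      trivial
    rwa [Algebra.adjoin_singleton_eq_range_aeval] at hc
  obtain ⟨Q, rfl⟩ := map_surjective π (algebraMap Λ k).rangeRestrict_surjective P
  refine ⟨aeval a₁ Q, aeval a₂ Q, ?_, ?_⟩
  · rw [← aeval_algHom_apply, ← aeval_algHom_apply, heq]
  · rw [← aeval_algHom_apply, r₁, hev, hP]

end Groth.Agent.ArtF84
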