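import Mathlib.RingTheory.AdicCompletion.Functoriality
import Mathlib.RingTheory.AdicCompletion.Noetherian
import Mathlib.RingTheory.HopkinsLevitzki
import Mathlib.RingTheory.Derivation.Basic
import Mathlib.RingTheory.Ideal.Cotangent
import Mathlib.LinearAlgebra.Dual.Lemmas

/-! Surjectivity of maps of complete local rings with equal residue fields. -/

set_option autoImplicit false
set_option linter.unusedSectionVars false
universe u v w x

namespace Groth.Agent.ArtF84

open IsLocalRing

variable {Λ : Type u} {k : Type v} [CommRing Λ] [Field k] [Algebra Λ k]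
  {R : Type w} {S : Type x} [CommRing R] [CommRing S] [IsLocalRing R] [IsLocalRing S]
  [Algebra Λ R] [Algebra Λ S] (resR : R →ₐ[Λ] k) (resS : S →ₐ[Λ] k)

theorem mem_maximal_iff (hR : Function.Surjective resR) (a : R) :
    a ∈ maximalIdeal R ↔ resR a = 0 := by
  have hmax : (RingHom.ker (resR : R →+* k)).IsMaximal :=
    RingHom.ker_isMaximal_of_surjective (resR : R →+* k) hR
  rw [← IsLocalRing.eq_maximalIdeal hmax, RingHom.mem_ker]
  rfl

variable (hR : Function.Surjective resR) (hS : Function.Surjective resS)
  (f : R →ₐ[Λ] S) (hf : resS.comp f = resR)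

include hR hS hf in
theorem map_maximal_le : (maximalIdeal R).map f ≤ maximalIdeal S :=
  Ideal.map_le_iff_le_comap.2 fun a ha => by
    rw [Ideal.mem_comap, mem_maximal_iff resS hS]
    exact (AlgHom.congr_fun hf a).trans ((mem_maximal_iff resR hR a).1 ha)

include hR hS hf in
/-- A map is surjective if it is surjective on the cotangent spaces. -/
theorem surjective_of_map_sup_sq_eq [IsNoetherianRing S] [IsPrecomplete (maximalIdeal R) R]
    (h : (maximalIdeal R).map f ⊔ maximalIdeal S ^ 2 = maximalIdeal S) : Function.Surjective f := by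
  have hle := map_maximal_le resR resS hR hS f hf
  have hge : maximalIdeal S ≤ (maximalIdeal R).map f := by
    refine Submodule.le_of_le_smul_of_le_jacobson_bot (I := maximalIdeal S) (IsNoetherian.noetherian _)
      (maximalIdeal_le_jacobson ⊥) ?_
    rw [smul_eq_mul, ← sq, h]
  have heq : (maximalIdeal R).map (f : R →+* S) = maximalIdeal S := le_antisymm hle hge
  have : IsHausdorff ((maximalIdeal R).map (f : R →+* S)) S := by
    rw [heq]; infer_instance
  refine surjective_of_mk_map_comp_surjective (I := maximalIdeal R) (f := (f : R →+* S)) fun q => ?_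
  obtain ⟨s, rfl⟩ := Ideal.Quotient.mk_surjective q
  obtain ⟨r, hr⟩ := hR (resS s)
  refine ⟨r, Ideal.Quotient.eq.2 ?_⟩
  rw [heq, mem_maximal_iff resS hS, map_sub, show resS ((f : R →+* S) r) = resR r from AlgHom.congr_fun hf r,
    hr, sub_self]

include hR hS hf in
theorem map_sup_sq_eq_of_surjective (h : Function.Surjective f) :
    (maximalIdeal R).map f ⊔ maximalIdeal S ^ 2 = maximalIdeal S := by
  refine le_antisymm (sup_le (map_maximal_le resR resS hR hS f hf) (Ideal.pow_le_self two_ne_zero)) ?_
  refine le_trans (fun s hs => ?_) le_sup_left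
  obtain ⟨r, rfl⟩ := h s
  refine Ideal.mem_map_of_mem _ ((mem_maximal_iff resR hR r).2 ?_)
  rw [← hf]
  exact (mem_maximal_iff resS hS _).1 hs

include hR hS hf in
theorem map_ker_le :
    (RingHom.ker (algebraMap Λ k)).map (algebraMap Λ S) ≤ (maximalIdeal R).map f :=
  Ideal.map_le_iff_le_comap.2 fun l hl => by
    rw [Ideal.mem_comap, ← f.commutes]
    exact Ideal.mem_map_of_mem _ ((mem_maximal_iff resR hR _).2 (by rw [resR.commutes]; exact hl))

include hR hS hf in
theorem tfae [IsNoetherianRing S] [IsPrecomplete (maximalIdeal R) R] :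
    List.TFAE [Function.Surjective f,
      (maximalIdeal R).map f ⊔ maximalIdeal S ^ 2 = maximalIdeal S,
      (RingHom.ker (algebraMap Λ k)).map (algebraMap Λ S) ⊔ (maximalIdeal R).map f ⊔ maximalIdeal S ^ 2 =
        maximalIdeal S] := by
  have h23 : (RingHom.ker (algebraMap Λ k)).map (algebraMap Λ S) ⊔ (maximalIdeal R).map f =
      (maximalIdeal R).map f := sup_eq_right.2 (map_ker_le resR resS hR hS f hf)
  rw [h23]
  tfae_have 1 → 2 := map_sup_sq_eq_of_surjective resR resS hR hS f hf
  tfae_have 2 → 1 := surjective_of_map_sup_sq_eq resR resS hR hS f hf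
  tfae_have 2 → 3 := id
  tfae_have 3 → 2 := id
  tfae_finish

include hR hS hf in
/-- If the differential on tangent spaces is injective the map is surjective on cotangent spaces. -/
theorem map_sup_sq_eq_of_derivation_injective [Algebra S k] [IsScalarTower Λ S k]
    (hres : ∀ s, algebraMap S k s = resS s)
    (hinj : ∀ D₁ D₂ : Derivation Λ S k, (∀ r : R, D₁ (f r) = D₂ (f r)) → D₁ = D₂) :
    (maximalIdeal R).map f ⊔ maximalIdeal S ^ 2 = maximalIdeal S := by
  by_contra hne
  have hle : (maximalIdeal R).map f ⊔ maximalIdeal S ^ 2 ≤ maximalIdeal S :=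
    sup_le (map_maximal_le resR resS hR hS f hf) (Ideal.pow_le_self two_ne_zero)
  obtain ⟨x, hxm, hx⟩ := SetLike.exists_of_lt (lt_of_le_of_ne hle hne)
  let q : maximalIdeal S →ₗ[S] CotangentSpace S := (maximalIdeal S).toCotangent
  let P : Submodule (ResidueField S) (CotangentSpace S) :=
    Submodule.span _ (q '' {y | (y : S) ∈ f '' maximalIdeal R})
  have hxP : q ⟨x, hxm⟩ ∉ P := fun hmem => hx <| by
    have key : ∀ v ∈ P, ∀ y : maximalIdeal S, q y = v → (y : S) ∈ (maximalIdeal R).map f ⊔ maximalIdeal S ^ 2 := by
      intro v hv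
      induction hv using Submodule.span_induction with
      | mem v hv =>
        obtain ⟨z, ⟨r, hr, hz⟩, rfl⟩ := hv
        intro y hy
        rw [← sub_add_cancel (y : S) (z : S)]
        exact add_mem (Submodule.mem_sup_right ((Ideal.toCotangent_eq _).1 hy))
          (Submodule.mem_sup_left (hz ▸ Ideal.mem_map_of_mem _ hr))
      | zero => exact fun y hy => Submodule.mem_sup_right ((Ideal.toCotangent_eq_zero _ _).1 hy)
      | add v w _ _ hv hw =>
        intro y hy
        obtain ⟨z, hz⟩ := (maximalIdeal S).toCotangent_surjective v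
        have := hw (y - z) (by rw [map_sub, hy]; exact sub_eq_iff_eq_add'.2 (by rw [← hz]))
        rw [← add_sub_cancel (z : S) (y : S)]
        exact add_mem (hv z hz) this
      | smul c v _ hv =>
        intro y hy
        obtain ⟨c, rfl⟩ := IsLocalRing.residue_surjective c
        obtain ⟨z, rfl⟩ := (maximalIdeal S).toCotangent_surjective v
        have h1 : q (y - c • z) = 0 := by rw [map_sub, map_smul, hy, ← algebraMap_smul (ResidueField S) c]; exact sub_self _
        rw [← sub_add_cancel (y : S) (c * z)]
        exact add_mem (Submodule.mem_sup_right ((Ideal.toCotangent_eq_zero _ _).1 h1))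
          (Ideal.mul_mem_left _ c (hv z rfl))
    exact key _ hmem ⟨x, hxm⟩ rfl
  obtain ⟨g, hgx, hgP⟩ := Submodule.exists_dual_map_eq_bot_of_notMem hxP inferInstance
  let e : ResidueField S →+* k := Ideal.Quotient.lift _ (resS : S →+* k)
    (fun a ha => (mem_maximal_iff resS hS a).1 ha)
  let lam : maximalIdeal S →+ k := (e.toAddMonoidHom.comp g.toAddMonoidHom).comp q.toAddMonoidHom
  have hlam : ∀ (s : S) (y : maximalIdeal S), lam (s • y) = resS s * lam y := fun s y => by
    show e (g (q (s • y))) = resS s * e (g (q y))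
    rw [map_smul, ← algebraMap_smul (ResidueField S) s (q y), map_smul, smul_eq_mul, map_mul]
    rfl
  have hlam0 : ∀ y : maximalIdeal S, (y : S) ∈ (maximalIdeal R).map f → lam y = 0 := by
    rintro ⟨y, hym⟩ (hy : y ∈ (maximalIdeal R).map f)
    revert hym
    induction hy using Submodule.span_induction with
    | mem y hy =>
      intro hym
      show e (g (q ⟨y, hym⟩)) = 0
      have hy' : q ⟨y, hym⟩ ∈ P := Submodule.subset_span ⟨⟨y, hym⟩, hy, rfl⟩
      have h0 : g (q ⟨y, hym⟩) = 0 := (Submodule.mem_bot _).1 (hgP ▸ Submodule.mem_map_of_mem hy')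
      rw [h0, map_zero]
    | zero => exact fun hym => map_zero lam
    | add a b ha hb iha ihb =>
      intro hym
      have hle' := map_maximal_le resR resS hR hS f hf
      rw [show (⟨a + b, hym⟩ : maximalIdeal S) = ⟨a, hle' ha⟩ + ⟨b, hle' hb⟩ from rfl, map_add, iha, ihb, add_zero]
    | smul c a ha iha =>
      intro hym
      rw [show (⟨c • a, hym⟩ : maximalIdeal S) = c • ⟨a, map_maximal_le resR resS hR hS f hf ha⟩ from rfl,
        hlam, iha, mul_zero]
  choose σ hσ using hR
  have hrf : ∀ r, resS (f r) = resR r := fun r => AlgHom.congr_fun hf r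
  have hmem : ∀ s r, resR r = resS s → s - f r ∈ maximalIdeal S := fun s r h => by
    rw [mem_maximal_iff resS hS, map_sub, hrf, h, sub_self]
  let D : S → k := fun s => lam ⟨s - f (σ (resS s)), hmem s _ (hσ _)⟩
  have hD : ∀ s r (h : resR r = resS s), D s = lam ⟨s - f r, hmem s r h⟩ := fun s r h => by
    show lam _ = _
    rw [← sub_eq_zero, ← map_sub]
    refine hlam0 _ ?_
    show s - f (σ (resS s)) - (s - f r) ∈ (maximalIdeal R).map f
    rw [sub_sub_sub_cancel_left, ← map_sub]
    refine Ideal.mem_map_of_mem _ ((mem_maximal_iff resR (fun c => ⟨σ c, hσ c⟩) _).2 ?_)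
    rw [map_sub, h, hσ, sub_self]
  let D' : Derivation Λ S k :=
    { toFun := D
      map_add' := fun a b => by
        rw [hD (a + b) (σ (resS a) + σ (resS b)) (by rw [map_add, map_add, hσ, hσ])]
        show lam _ = lam _ + lam _
        refine Eq.trans ?_ (lam.map_add _ _)
        refine congrArg lam (Subtype.ext ?_)
        show a + b - f (σ (resS a) + σ (resS b)) = a - f (σ (resS a)) + (b - f (σ (resS b)))
        rw [map_add]; abel
      map_smul' := fun l a => by
        rw [hD (l • a) (l • σ (resS a)) (by rw [map_smul, map_smul, hσ])]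
        show lam _ = l • lam _
        rw [Algebra.smul_def l (lam _), ← resS.commutes, ← hlam]
        refine congrArg lam (Subtype.ext ?_)
        show l • a - f (l • σ (resS a)) = algebraMap Λ S l * (a - f (σ (resS a)))
        rw [map_smul, ← smul_sub, Algebra.smul_def]
      map_one_eq_zero' := by
        show D 1 = 0
        rw [hD 1 1 (by rw [map_one, map_one]), show (⟨1 - f 1, _⟩ : maximalIdeal S) = 0 from
          Subtype.ext (show (1 : S) - f 1 = 0 by rw [map_one, sub_self]), map_zero]
      leibniz' := fun a b => by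
        show D (a * b) = a • D b + b • D a
        rw [hD (a * b) (σ (resS a) * σ (resS b)) (by rw [map_mul, map_mul, hσ, hσ]),
          Algebra.smul_def, Algebra.smul_def, hres, hres]
        show lam _ = resS a * lam _ + resS b * lam _
        rw [show (⟨a * b - f (σ (resS a) * σ (resS b)), _⟩ : maximalIdeal S) =
            f (σ (resS a)) • ⟨b - f (σ (resS b)), hmem b _ (hσ _)⟩ + b • ⟨a - f (σ (resS a)), hmem a _ (hσ _)⟩ from
          Subtype.ext (by
            show a * b - f (σ (resS a) * σ (resS b)) =
              f (σ (resS a)) * (b - f (σ (resS b))) + b * (a - f (σ (resS a)))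
            rw [map_mul]; ring),
          map_add, hlam, hlam, hrf, hσ] }
  have hzero : ∀ r, D (f r) = 0 := fun r => by
    rw [hD (f r) r (hrf r).symm, show (⟨f r - f r, _⟩ : maximalIdeal S) = 0 from Subtype.ext (sub_self _), map_zero]
  have hDeq : D' = 0 := hinj D' 0 hzero
  have hDx : D x = e (g (q ⟨x, hxm⟩)) := by
    rw [hD x 0 (by rw [map_zero, (mem_maximal_iff resS hS x).1 hxm])]
    exact congrArg lam (Subtype.ext (show x - f 0 = x by rw [map_zero, sub_zero]))
  have he : e (g (q ⟨x, hxm⟩)) ≠ 0 := (map_ne_zero e).2 hgx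
  exact he (hDx.symm.trans (congrArg (fun d : Derivation Λ S k => d x) hDeq))

end Groth.Agent.ArtF84
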